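import Groth.Agent.Lib.Flatness.Fibre
import Mathlib.AlgebraicGeometry.Morphisms.WeaklyEtale
import Mathlib.AlgebraicGeometry.Morphisms.FlatMono
import Mathlib.AlgebraicGeometry.Stalk
import Mathlib.RingTheory.Etale.Weakly
import Mathlib.RingTheory.Ideal.Pure
import Mathlib.RingTheory.Ideal.GoingDown
import Mathlib.RingTheory.Unramified.Field
import Mathlib.FieldTheory.SeparableDegree
import Mathlib.FieldTheory.IntermediateField.Adjoin.Algebra

/-!
# Weakly etale morphisms: affine and stalkwise description, formal unramifiedness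
-/

universe u

namespace GrothLib.WeakEtale

open AlgebraicGeometry CategoryTheory Limits TensorProduct

/-- Flatness cancels from the left along a faithfully flat ring map. -/
theorem ringFlat_of_comp {A B C : Type u} [CommRing A] [CommRing B] [CommRing C] (f : A →+* B) (g : B →+* C)
    (hg : g.FaithfullyFlat) (h : (g.comp f).Flat) : f.Flat := by
  algebraize [f, g, g.comp f]
  exact GrothLib.Flatness.flat_of_faithfullyFlat (R := A) (S := B) (M := C)

theorem algebra_iff_specMap {R S : Type u} [CommRing R] [CommRing S] [Algebra R S] :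
    WeaklyEtale (Spec.map (CommRingCat.ofHom (algebraMap R S))) ↔ Algebra.WeaklyEtale R S := by
  rw [AlgebraicGeometry.weaklyEtale_iff, Algebra.weaklyEtale_iff, Flat.SpecMap_iff, diagonal_SpecMap R S,
    MorphismProperty.cancel_right_of_respectsIso (P := @Flat), Flat.SpecMap_iff]
  exact and_congr RingHom.flat_algebraMap_iff Iff.rfl

theorem weaklyEtale_specMap_iff {R S : CommRingCat.{u}} (φ : R ⟶ S) :
    WeaklyEtale (Spec.map φ) ↔ (letI := φ.hom.toAlgebra; Algebra.WeaklyEtale R S) := by
  letI := φ.hom.toAlgebra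
  exact algebra_iff_specMap (R := R) (S := S)

variable {X Y Z : Scheme.{u}}

theorem weaklyEtale_iff_appLE (f : X ⟶ Y) :
    WeaklyEtale f ↔ ∀ (U : X.Opens) (V : Y.Opens) (_ : IsAffineOpen U) (_ : IsAffineOpen V) (hUV : U ≤ f ⁻¹ᵁ V),
      WeaklyEtale (Spec.map (f.appLE V U hUV)) := by
  refine ⟨fun _ U V hU hV e => ?_, fun H => ?_⟩
  · have h : WeaklyEtale (Spec.map (f.appLE V U e) ≫ hV.fromSpec) := by
      rw [IsAffineOpen.SpecMap_appLE_fromSpec f hV hU e]; infer_instance
    exact WeaklyEtale.of_comp _ hV.fromSpec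
  · have hcov : ∀ x, ∃ (U : X.Opens), x ∈ U ∧ WeaklyEtale (U.ι ≫ f) := fun x => by
      obtain ⟨_, ⟨V, hV, rfl⟩, hfx, -⟩ :=
        Y.isBasis_affineOpens.exists_subset_of_mem_open (Set.mem_univ (f x)) isOpen_univ
      obtain ⟨_, ⟨U, hU, rfl⟩, hxU, e⟩ :=
        X.isBasis_affineOpens.exists_subset_of_mem_open (a := x) (show x ∈ f ⁻¹ᵁ V from hfx) (f ⁻¹ᵁ V).2
      refine ⟨U, hxU, ?_⟩
      change WeaklyEtale (Scheme.Opens.ι U ≫ f)
      have : Scheme.Opens.ι U ≫ f = hU.isoSpec.hom ≫ Spec.map (f.appLE V U e) ≫ hV.fromSpec := by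
        rw [IsAffineOpen.SpecMap_appLE_fromSpec f hV hU e, IsAffineOpen.isoSpec_hom_fromSpec_assoc]
      haveI hW := H U V hU hV e
      rw [this]
      infer_instance
    choose U hxU hU using hcov
    exact IsZariskiLocalAtSource.of_openCover (X.openCoverOfIsOpenCover U
      (top_le_iff.mp fun x _ => TopologicalSpace.Opens.mem_iSup.mpr ⟨x, hxU x⟩)) hU

instance weaklyEtale_fromSpecStalk (x : X) : WeaklyEtale (X.fromSpecStalk x) := by
  have hf : Flat (X.fromSpecStalk x) := by
    obtain ⟨_, ⟨U, hU, rfl⟩, hxU, -⟩ :=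
      X.isBasis_affineOpens.exists_subset_of_mem_open (Set.mem_univ x) isOpen_univ
    rw [← hU.fromSpecStalk_eq_fromSpecStalk hxU, IsAffineOpen.fromSpecStalk]
    letI : Algebra Γ(X, U) (X.presheaf.stalk x) := (X.presheaf.germ U x hxU).hom.toAlgebra
    haveI := hU.isLocalization_stalk ⟨x, hxU⟩
    haveI : Flat (Spec.map (X.presheaf.germ U x hxU)) := Flat.SpecMap_iff.mpr
      (RingHom.flat_algebraMap_iff.mpr
        (IsLocalization.flat (X.presheaf.stalk x) (hU.primeIdealOf ⟨x, hxU⟩).asIdeal.primeCompl))
    infer_instance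
  exact ⟨hf, inferInstance⟩

/-- Flatness cancels from the right along a monomorphism. -/
theorem flat_of_comp_mono (f : X ⟶ Y) (g : Y ⟶ Z) [Mono g] [Flat (f ≫ g)] : Flat f :=
  MorphismProperty.of_postcomp (W := @Flat) (W' := MorphismProperty.monomorphisms Scheme.{u}) f g ‹Mono g› ‹_›

theorem weaklyEtale_stalkMap (f : X ⟶ Y) [WeaklyEtale f] (x : X) : WeaklyEtale (Spec.map (f.stalkMap x)) := by
  have h : WeaklyEtale (Spec.map (f.stalkMap x) ≫ Y.fromSpecStalk (f x)) := by
    rw [Scheme.SpecMap_stalkMap_fromSpecStalk]; infer_instance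
  exact WeaklyEtale.of_comp _ (Y.fromSpecStalk (f x))

theorem weaklyEtale_of_stalkMap (f : X ⟶ Y) (H : ∀ x, WeaklyEtale (Spec.map (f.stalkMap x))) :
    WeaklyEtale f := by
  haveI hflat : Flat f := Flat.of_stalkMap _ fun x => by
    have := H x
    exact Flat.SpecMap_iff.mp inferInstance
  refine ⟨hflat, Flat.of_stalkMap _ fun x => ?_⟩
  haveI := H x
  haveI : WeaklyEtale (X.fromSpecStalk x ≫ f) := by
    rw [← Scheme.SpecMap_stalkMap_fromSpecStalk]; infer_instance
  haveI h1 : Flat (X.fromSpecStalk x ≫ pullback.diagonal f) := by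
    rw [pullback.comp_diagonal]
    refine MorphismProperty.comp_mem _ _ _ inferInstance ?_
    exact MorphismProperty.pullbackMap (P := @Flat) inferInstance inferInstance rfl rfl
  rw [← Scheme.SpecMap_stalkMap_fromSpecStalk] at h1
  exact Flat.SpecMap_iff.mp (flat_of_comp_mono _ ((pullback.diagonalObj f).fromSpecStalk _))

/-- The kernel of the multiplication map of a weakly etale algebra is idempotent. -/
theorem algebra_formallyUnramified (R S : Type u) [CommRing R] [CommRing S] [Algebra R S]
    [Algebra.WeaklyEtale R S] : Algebra.FormallyUnramified R S := by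
  haveI : (KaehlerDifferential.ideal R S).Pure := by
    let l := (Algebra.TensorProduct.lmul' R (S := S)).toRingHom
    have hl : Function.Surjective l := fun x => ⟨x ⊗ₜ 1, by simp [l]⟩
    have h1 : ((RingHom.quotientKerEquivOfSurjective hl).symm.toRingHom.comp l).Flat :=
      (Algebra.WeaklyEtale.flat_lmul' R S).comp (.of_bijective (RingEquiv.bijective _))
    have h2 : (RingHom.quotientKerEquivOfSurjective hl).symm.toRingHom.comp l =
        Ideal.Quotient.mk (RingHom.ker l) := RingHom.ext fun x => by
      apply (RingHom.quotientKerEquivOfSurjective hl).injective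
      simp
    rw [h2] at h1
    exact RingHom.flat_algebraMap_iff.mp h1
  exact ⟨(Ideal.cotangent_subsingleton_iff _).mpr (Ideal.isIdempotentElem_of_pure _)⟩

theorem formallyUnramified (f : X ⟶ Y) [WeaklyEtale f] : FormallyUnramified f := by
  rw [HasRingHomProperty.iff_appLE (P := @FormallyUnramified)]
  intro U V e
  have := (weaklyEtale_specMap_iff _).mp ((weaklyEtale_iff_appLE f).mp ‹_› V.1 U.1 V.2 U.2 e)
  algebraize [(f.appLE U.1 V.1 e).hom]
  exact algebra_formallyUnramified _ _

theorem isSeparable_of_weaklyEtale {K L : Type u} [Field K] [Field L] [Algebra K L]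
    [Algebra.WeaklyEtale K L] : Algebra.IsSeparable K L := by
  refine ⟨fun x => ?_⟩
  let E := IntermediateField.adjoin K {x}
  haveI : Algebra.WeaklyEtale K E := by
    refine ⟨inferInstance, ?_⟩
    have hι : (E.val : E →ₐ[K] L).toRingHom.Flat := RingHom.Flat.of_isField (Field.toIsField E) _
    have hff : (E.val : E →ₐ[K] L).toRingHom.FaithfullyFlat :=
      RingHom.FaithfullyFlat.iff_flat_and_comap_surjective.mpr ⟨hι, fun p =>
        ⟨⟨⊥, Ideal.isPrime_bot⟩, Subsingleton.elim _ _⟩⟩
    refine ringFlat_of_comp _ _ hff ?_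
    have heq : (E.val.toRingHom).comp (Algebra.TensorProduct.lmul' K (S := E)).toRingHom =
        (Algebra.TensorProduct.lmul' K (S := L)).toRingHom.comp
          (Algebra.TensorProduct.map E.val E.val).toRingHom := by
      have h : E.val.comp (Algebra.TensorProduct.lmul' K (S := E)) =
          (Algebra.TensorProduct.lmul' K (S := L)).comp (Algebra.TensorProduct.map E.val E.val) :=
        Algebra.TensorProduct.ext' fun a b => by simp
      exact congrArg AlgHom.toRingHom h
    rw [heq]
    exact .comp (.tensorProductMap hι hι) (Algebra.WeaklyEtale.flat_lmul' K L)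
  haveI := algebra_formallyUnramified K E
  haveI : Algebra.EssFiniteType K E :=
    IntermediateField.essFiniteType_iff.mpr (IntermediateField.fg_adjoin_of_finite (Set.finite_singleton x))
  haveI : Algebra.IsSeparable K E := (Algebra.FormallyUnramified.iff_isSeparable K E).mp inferInstance
  exact (IntermediateField.isSeparable_adjoin_simple_iff_isSeparable K L).mp
    ‹Algebra.IsSeparable K E›

theorem isIso_of_weaklyEtale (f : X ⟶ Y) [WeaklyEtale f] [UniversallyInjective f] [Surjective f]
    [QuasiCompact f] : IsIso f := by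
  haveI : Surjective (pullback.diagonal f) := (UniversallyInjective.iff_diagonal f).mp ‹_›
  haveI : IsClosedImmersion (pullback.diagonal f) := .of_isPreimmersion _ (by
    rw [(pullback.diagonal f).surjective.range_eq]; exact isClosed_univ)
  haveI := Flat.isIso_of_surjective_of_mono (pullback.diagonal f)
  haveI : Mono f := (pullback.isIso_diagonal_iff f).mp ‹_›
  exact Flat.isIso_of_surjective_of_mono f

/-- Flatness cancels from the left along a flat surjective morphism. -/
theorem flat_of_comp_flat_surjective (f : X ⟶ Y) (g : Y ⟶ Z) [Flat f] [Surjective f] [Flat (f ≫ g)] :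
    Flat g := by
  refine Flat.of_stalkMap _ fun y => ?_
  obtain ⟨x, rfl⟩ := f.surjective y
  have h := Flat.stalkMap (f ≫ g) x
  rw [Scheme.Hom.stalkMap_comp] at h
  refine ringFlat_of_comp (g.stalkMap (f x)).hom (f.stalkMap x).hom ?_ h
  have := Flat.stalkMap f x
  algebraize [(f.stalkMap x).hom]
  haveI : IsLocalHom (algebraMap (Y.presheaf.stalk (f x)) (X.presheaf.stalk x)) :=
    inferInstanceAs <| IsLocalHom (f.stalkMap x).hom
  exact RingHom.faithfullyFlat_algebraMap_iff.mpr Module.FaithfullyFlat.of_flat_of_isLocalHom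

end GrothLib.WeakEtale
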