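import Groth.Agent.Lib.Olivier.Main
import Groth.Agent.Lib.IndEt.Algebra
import Groth.Agent.Lib.IndEt.Flat
import Groth.Prelude.Def_EtAlgD
import Mathlib.RingTheory.Etale.Field
import Mathlib.RingTheory.Kaehler.Basic

/-!
# Weakly étale algebras over a field

They are the algebras all whose elements are roots of separable polynomials.
-/

universe u

open Polynomial TensorProduct

noncomputable section

namespace GrothLib.WeakEtale

variable (K : Type u) [Field K] {B : Type u} [CommRing B] [Algebra K B]

/-- A root of a separable polynomial. -/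
def IsSepElem (b : B) : Prop := ∃ f : K[X], f.Separable ∧ aeval b f = 0

variable {K}

theorem IsSepElem.map {b : B} (h : IsSepElem K b) {C : Type u} [CommRing C] [Algebra K C] (g : B →ₐ[K] C) :
    IsSepElem K (g b) := by
  obtain ⟨f, hf, hb⟩ := h
  exact ⟨f, hf, by rw [aeval_algHom_apply, hb, map_zero]⟩

theorem IsSepElem.of_map {b : B} {C : Type u} [CommRing C] [Algebra K C] (g : B →ₐ[K] C)
    (hg : Function.Injective g) (h : IsSepElem K (g b)) : IsSepElem K b := by
  obtain ⟨f, hf, hb⟩ := h
  exact ⟨f, hf, hg (by rw [← aeval_algHom_apply, hb, map_zero])⟩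

theorem isSepElem_algebraMap (a : K) : IsSepElem K (algebraMap K B a) :=
  ⟨X - C a, separable_X_sub_C, by simp⟩

theorem formallyUnramified_of_adjoin {s : Set B} (hs : Algebra.adjoin K s = ⊤)
    (h : ∀ b ∈ s, IsSepElem K b) : Algebra.FormallyUnramified K B := by
  have hD : ∀ b : B, KaehlerDifferential.D K B b = 0 := by
    intro b
    refine Algebra.adjoin_induction (p := fun x _ => KaehlerDifferential.D K B x = 0) (fun x hx => ?_)
      (fun a => Derivation.map_algebraMap _ a) (fun x y _ _ h h' => by rw [map_add, h, h', add_zero])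
      (fun x y _ _ h h' => by rw [Derivation.leibniz, h, h', smul_zero, smul_zero, add_zero])
      (hs ▸ Algebra.mem_top : b ∈ Algebra.adjoin K s)
    obtain ⟨f, hf, hfx⟩ := h x hx
    have h0 : aeval x (derivative f) • KaehlerDifferential.D K B x = 0 := by
      rw [← Derivation.map_aeval, hfx, map_zero]
    obtain ⟨a, c, hac⟩ := hf
    have h1 := congrArg (aeval x) hac
    rw [map_add, map_mul, map_mul, hfx, mul_zero, zero_add, map_one] at h1
    rw [← one_smul B (KaehlerDifferential.D K B x), ← h1, mul_smul, h0, smul_zero]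
  refine ⟨subsingleton_of_forall_eq 0 fun w => ?_⟩
  have hw : w ∈ Submodule.span B (Set.range (KaehlerDifferential.D K B)) := by
    rw [KaehlerDifferential.span_range_derivation]; exact Submodule.mem_top
  refine Submodule.span_induction (p := fun x _ => x = 0) ?_ rfl (fun x y _ _ h h' => by rw [h, h', add_zero])
    (fun c x _ h => by rw [h, smul_zero]) hw
  rintro _ ⟨b, rfl⟩
  exact hD b

theorem etale_of_adjoin (s : Finset B) (hs : Algebra.adjoin K (s : Set B) = ⊤)
    (h : ∀ b ∈ s, IsSepElem K b) : Algebra.Etale K B := by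
  haveI : Algebra.FiniteType K B := ⟨⟨s, hs⟩⟩
  haveI := formallyUnramified_of_adjoin hs h
  haveI := Algebra.FormallyEtale.of_formallyUnramified_of_field K B
  exact ⟨inferInstance, (Algebra.FinitePresentation.of_finiteType).mp inferInstance⟩

/-- In a weakly étale algebra every element is a root of a separable polynomial. -/
theorem isSepElem_of_weaklyEtale [Algebra.WeaklyEtale K B] (b : B) : IsSepElem K b := by
  classical
  have hreg := Olivier.regular_of_weaklyEtale_field K B
  let J : Ideal B :=
    { carrier := {c | ∃ s : Finset K[X], (∀ f ∈ s, f.Monic ∧ Irreducible f ∧ f.Separable) ∧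
        c * aeval b (∏ f ∈ s, f) = 0}
      zero_mem' := ⟨∅, by simp, zero_mul _⟩
      add_mem' := by
        rintro c c' ⟨s, hs, h⟩ ⟨s', hs', h'⟩
        refine ⟨s ∪ s', fun f hf => (Finset.mem_union.mp hf).elim (hs f) (hs' f), ?_⟩
        obtain ⟨u, hu⟩ := Finset.prod_dvd_prod_of_subset s (s ∪ s') (fun f => f) Finset.subset_union_left
        obtain ⟨v, hv⟩ := Finset.prod_dvd_prod_of_subset s' (s ∪ s') (fun f => f) Finset.subset_union_right
        rw [add_mul]
        nth_rewrite 1 [hu]
        rw [hv, map_mul, map_mul, ← mul_assoc, ← mul_assoc, h, h', zero_mul, zero_mul, add_zero]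
      smul_mem' := by
        rintro a c ⟨s, hs, h⟩
        exact ⟨s, hs, by rw [smul_eq_mul, mul_assoc, h, mul_zero]⟩ }
  have hJ : J = ⊤ := by
    by_contra hne
    obtain ⟨q, hq, hJq⟩ := Ideal.exists_le_maximal J hne
    haveI := hq
    letI : Field (B ⧸ q) := Ideal.Quotient.field q
    haveI : Module.Flat B (B ⧸ q) := hreg.flat _
    haveI : Algebra.WeaklyEtale B (B ⧸ q) := by
      refine ⟨inferInstance, RingHom.Flat.of_bijective ⟨?_, fun x => ⟨x ⊗ₜ 1, by simp⟩⟩⟩
      have hsurj : Function.Surjective fun x : B ⧸ q => x ⊗ₜ[B] (1 : B ⧸ q) := fun z => by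
        induction z with
        | zero => exact ⟨0, TensorProduct.zero_tmul _ _⟩
        | tmul x y =>
          obtain ⟨r, rfl⟩ := Ideal.Quotient.mk_surjective y
          exact ⟨r • x, by rw [← Ideal.Quotient.algebraMap_eq, Algebra.algebraMap_eq_smul_one r,
            TensorProduct.tmul_smul, TensorProduct.smul_tmul']⟩
        | add x y hx hy =>
          obtain ⟨u, rfl⟩ := hx
          obtain ⟨v, rfl⟩ := hy
          exact ⟨u + v, TensorProduct.add_tmul u v 1⟩
      intro x y hxy
      obtain ⟨u, rfl⟩ := hsurj x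
      obtain ⟨v, rfl⟩ := hsurj y
      rw [show u = v by simpa using hxy]
    haveI : Algebra.WeaklyEtale K (B ⧸ q) := Algebra.WeaklyEtale.trans K B (B ⧸ q)
    haveI := GrothLib.WeakEtale.isSeparable_of_weaklyEtale (K := K) (L := B ⧸ q)
    have hx := Algebra.IsSeparable.isSeparable K (Ideal.Quotient.mkₐ K q b)
    let f := minpoly K (Ideal.Quotient.mkₐ K q b)
    have hf : aeval b f ∈ q := by
      rw [← Ideal.Quotient.eq_zero_iff_mem, ← Ideal.Quotient.mkₐ_eq_mk K, ← aeval_algHom_apply, minpoly.aeval]
    obtain ⟨y, hy⟩ := hreg (aeval b f)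
    have hmem : 1 - y * aeval b f ∈ J := ⟨{f}, fun g hg => by
      rw [Finset.mem_singleton.mp hg]
      exact ⟨minpoly.monic hx.isIntegral, minpoly.irreducible hx.isIntegral, hx⟩, by
      rw [Finset.prod_singleton]; linear_combination -hy⟩
    exact hq.ne_top ((Ideal.eq_top_iff_one q).mpr
      (by simpa using add_mem (hJq hmem) (q.mul_mem_left y hf)))
  obtain ⟨s, hs, h⟩ : (1 : B) ∈ J := hJ ▸ Submodule.mem_top
  refine ⟨∏ f ∈ s, f, separable_prod' (fun f hf g hg hfg => ?_) (fun f hf => (hs f hf).2.2), by rwa [one_mul] at h⟩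
  exact (dvd_or_isCoprime f g (hs f hf).2.1).resolve_left fun hd => hfg
    (eq_of_monic_of_associated (hs f hf).1 (hs g hg).1 ((hs f hf).2.1.associated_of_dvd (hs g hg).2.1 hd))

/-- An algebra of separable elements is ind-étale. -/
theorem isIndEtale_of_isSepElem (h : ∀ b : B, IsSepElem K b) : EtPBC.IsIndEtale K B := by
  classical
  refine IndEt.of_exists_etale fun Z _ _ _ g => ?_
  obtain ⟨t, ht⟩ : (⊤ : Subalgebra K Z).FG := Algebra.FiniteType.out
  have hgen : Algebra.adjoin K (↑(t.image g.rangeRestrict) : Set g.range) = ⊤ := by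
    rw [Finset.coe_image, ← AlgHom.map_adjoin, ht, Algebra.map_top, AlgHom.range_eq_top]
    exact g.rangeRestrict_surjective
  haveI := etale_of_adjoin _ hgen fun b _ => (h b).of_map g.range.val Subtype.val_injective
  exact ⟨g.range, inferInstance, inferInstance, inferInstance, g.rangeRestrict, g.range.val, rfl⟩

theorem weaklyEtale_of_isSepElem (h : ∀ b : B, IsSepElem K b) : Algebra.WeaklyEtale K B :=
  IndEt.weaklyEtale (isIndEtale_of_isSepElem h)

variable (K) (A : Type u) [CommRing A] [Algebra K A]

theorem isSepElem_of_mem_adjoin {s : Finset A} (hs : ∀ a ∈ s, IsSepElem K a) {x : A}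
    (hx : x ∈ Algebra.adjoin K (s : Set A)) : IsSepElem K x := by
  classical
  haveI := etale_of_adjoin (K := K) (B := Algebra.adjoin K (s : Set A)) (s.attach.image fun a =>
      (⟨a.1, Algebra.subset_adjoin a.2⟩ : Algebra.adjoin K (s : Set A))) (by
      rw [Finset.coe_image]
      refine Eq.trans ?_ (Algebra.adjoin_adjoin_coe_preimage (R := K) (s := (s : Set A)))
      congr 1
      ext y
      simp only [Set.mem_image, Finset.mem_coe, Finset.mem_attach, true_and, Subtype.exists, Set.mem_preimage]
      exact ⟨by rintro ⟨a, h, rfl⟩; exact h, fun h => ⟨_, h, rfl⟩⟩) fun b hb => by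
    obtain ⟨a, -, rfl⟩ := Finset.mem_image.mp hb
    exact (hs a.1 a.2).of_map (Algebra.adjoin K (s : Set A)).val Subtype.val_injective
  exact (isSepElem_of_weaklyEtale (⟨x, hx⟩ : Algebra.adjoin K (s : Set A))).map
    (Algebra.adjoin K (s : Set A)).val

/-- The subalgebra of separable elements. -/
def sepSubalgebra : Subalgebra K A where
  carrier := {x | IsSepElem K x}
  mul_mem' {x y} hx hy := by
    classical
    exact isSepElem_of_mem_adjoin K A (s := {x, y}) (by simp; exact ⟨hx, hy⟩)
      (mul_mem (Algebra.subset_adjoin (by simp)) (Algebra.subset_adjoin (by simp)))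
  add_mem' {x y} hx hy := by
    classical
    exact isSepElem_of_mem_adjoin K A (s := {x, y}) (by simp; exact ⟨hx, hy⟩)
      (add_mem (Algebra.subset_adjoin (by simp)) (Algebra.subset_adjoin (by simp)))
  algebraMap_mem' := isSepElem_algebraMap

theorem weaklyEtale_sepSubalgebra : Algebra.WeaklyEtale K (sepSubalgebra K A) :=
  weaklyEtale_of_isSepElem fun b => IsSepElem.of_map (sepSubalgebra K A).val Subtype.val_injective b.2

theorem maxWeaklyEtale_eq : EtAlgD.maxWeaklyEtale K A = sepSubalgebra K A := by
  refine le_antisymm (sSup_le fun S hS x hx => ?_) (le_sSup (weaklyEtale_sepSubalgebra K A))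
  haveI : Algebra.WeaklyEtale K S := hS
  exact (isSepElem_of_weaklyEtale (⟨x, hx⟩ : S)).map S.val

theorem mem_maxWeaklyEtale {x : A} : x ∈ EtAlgD.maxWeaklyEtale K A ↔ IsSepElem K x := by
  rw [maxWeaklyEtale_eq]; rfl

end GrothLib.WeakEtale
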