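import Groth.Agent.Lib.WeakEtale.OverField
import Mathlib.RingTheory.PolynomialAlgebra
import Mathlib.RingTheory.Trace.Basic
import Mathlib.FieldTheory.Galois.GaloisClosure
import Mathlib.FieldTheory.SeparableClosure
import Mathlib.FieldTheory.PurelyInseparable.Basic
import Mathlib.FieldTheory.IsAlgClosed.AlgebraicClosure
import Mathlib.LinearAlgebra.Lagrange
import Mathlib.RingTheory.Jacobson.Ring
import Mathlib.RingTheory.Nullstellensatz
import Mathlib.RingTheory.TensorProduct.Free
import Mathlib.LinearAlgebra.BilinearForm.Properties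

/-!
# Separable elements after a field extension
-/

universe u

open Polynomial TensorProduct

noncomputable section

namespace GrothLib.WeakEtale

variable {K : Type u} [Field K] {A : Type u} [CommRing A] [Algebra K A]

theorem isSepElem_of_isIdempotentElem {e : A} (he : IsIdempotentElem e) : IsSepElem K e := by
  refine ⟨X * (X - 1), ⟨-4, C 2 * X - 1, ?_⟩, by rw [map_mul, map_sub, aeval_X, map_one, mul_sub, he.eq, mul_one, sub_self]⟩
  simp only [derivative_mul, derivative_sub, derivative_X, derivative_one, map_ofNat]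
  ring

theorem IsSepElem.of_one_tmul {L : Type u} [Field L] [Algebra K L] {a : A}
    (h : IsSepElem L ((1 : L) ⊗ₜ[K] a)) : IsSepElem K a := by
  obtain ⟨f, hf, hfa⟩ := h
  obtain ⟨g, hg⟩ : (RingHom.ker (aeval a : K[X] →ₐ[K] A)).IsPrincipal := inferInstance
  let e : L ⊗[K] K[X] →ₐ[L] L ⊗[K] A := Algebra.TensorProduct.map (AlgHom.id L L) (aeval a)
  have he : ∀ p : L[X], e (polyEquivTensor K L p) = aeval ((1 : L) ⊗ₜ[K] a) p := by
    intro p
    have h : e.comp (polyEquivTensor' K L).toAlgHom = aeval ((1 : L) ⊗ₜ[K] a) := by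
      refine Polynomial.algHom_ext ?_
      simp [e]
    exact AlgHom.congr_fun h p
  have hex : Function.Exact ((Submodule.span K[X] {g}).subtype.restrictScalars K)
      ((aeval a : K[X] →ₐ[K] A).toLinearMap) := fun x => by
    constructor
    · intro hx
      exact ⟨⟨x, hg ▸ (RingHom.mem_ker.2 (show aeval a x = 0 from hx) : x ∈ RingHom.ker (aeval a : K[X] →ₐ[K] A))⟩, rfl⟩
    · rintro ⟨y, rfl⟩
      show aeval a (y : K[X]) = 0
      exact RingHom.mem_ker.1 (hg.symm ▸ y.2 : (y : K[X]) ∈ RingHom.ker (aeval a : K[X] →ₐ[K] A))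
  obtain ⟨t, ht⟩ := (Module.Flat.lTensor_exact L hex (polyEquivTensor K L f)).1 (by
    have h := he f
    rw [hfa] at h
    exact h)
  have hdvd : g.map (algebraMap K L) ∣ f := by
    have h1 : ∀ t, g.map (algebraMap K L) ∣
        (polyEquivTensor K L).symm (((Submodule.span K[X] {g}).subtype.restrictScalars K).lTensor L t) := by
      intro t
      induction t with
      | zero => simp
      | tmul l y =>
        obtain ⟨c, hc⟩ := Ideal.mem_span_singleton.1 y.2
        rw [LinearMap.lTensor_tmul, LinearMap.restrictScalars_apply, Submodule.subtype_apply, hc,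
          polyEquivTensor_symm_apply_tmul_eq_smul, Polynomial.map_mul]
        exact (dvd_mul_right _ _).trans (Dvd.intro_left (C l) (by rw [smul_eq_C_mul]))
      | add x y hx hy => rw [map_add, map_add]; exact dvd_add hx hy
    have h2 := h1 t
    rwa [ht, AlgEquiv.symm_apply_apply] at h2
  exact ⟨g, (separable_map _).1 (hf.of_dvd hdvd),
    RingHom.mem_ker.1 (hg.symm ▸ Ideal.mem_span_singleton_self g : g ∈ RingHom.ker (aeval a : K[X] →ₐ[K] A))⟩

variable (K A) in
/-- The subalgebra generated over an extension by the separable elements. -/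
def extSep (L : Type u) [Field L] [Algebra K L] : Subalgebra L (L ⊗[K] A) :=
  Algebra.adjoin L ((Algebra.TensorProduct.includeRight : A →ₐ[K] L ⊗[K] A) '' (sepSubalgebra K A : Set A))

theorem extSep_le (L : Type u) [Field L] [Algebra K L] : extSep K A L ≤ sepSubalgebra L (L ⊗[K] A) := by
  refine Algebra.adjoin_le ?_
  rintro _ ⟨a, ⟨f, hf, hfa⟩, rfl⟩
  refine ⟨f.map (algebraMap K L), hf.map, ?_⟩
  rw [aeval_map_algebraMap, aeval_algHom_apply, hfa, map_zero]

theorem map_mem_extSep {L L' : Type u} [Field L] [Algebra K L] [Field L'] [Algebra K L'] (φ : L →ₐ[K] L')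
    {y : L ⊗[K] A} (hy : y ∈ extSep K A L) :
    Algebra.TensorProduct.map φ (AlgHom.id K A) y ∈ extSep K A L' := by
  refine Algebra.adjoin_induction (p := fun z _ => Algebra.TensorProduct.map φ (AlgHom.id K A) z ∈ extSep K A L')
    (fun z hz => ?_) (fun l => ?_) (fun _ _ _ _ h h' => by rw [map_add]; exact add_mem h h')
    (fun _ _ _ _ h h' => by rw [map_mul]; exact mul_mem h h') hy
  · obtain ⟨a, ha, rfl⟩ := hz
    rw [Algebra.TensorProduct.includeRight_apply, Algebra.TensorProduct.map_tmul, map_one, AlgHom.id_apply]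
    exact Algebra.subset_adjoin ⟨a, ha, rfl⟩
  · rw [Algebra.TensorProduct.algebraMap_apply, Algebra.TensorProduct.map_tmul, map_one]
    exact (extSep K A L').algebraMap_mem (φ l)

/-- Galois descent of separable elements. -/
theorem mem_extSep_of_isGalois {L : Type u} [Field L] [Algebra K L] [FiniteDimensional K L] [IsGalois K L]
    {x : L ⊗[K] A} (hx : IsSepElem L x) : x ∈ extSep K A L := by
  classical
  let b := Module.finBasis K L
  let hB := traceForm_nondegenerate K L
  let d := (Algebra.traceForm K L).dualBasis hB b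
  let T : L ⊗[K] A →ₗ[K] A := (TensorProduct.lid K A).toLinearMap ∘ₗ (Algebra.trace K L).rTensor A
  have hT : ∀ y, (1 : L) ⊗ₜ[K] T y = ∑ σ : L ≃ₐ[K] L, Algebra.TensorProduct.map σ.toAlgHom (AlgHom.id K A) y := by
    intro y
    induction y with
    | zero => simp
    | tmul l a =>
      simp only [T, LinearMap.coe_comp, LinearEquiv.coe_coe, Function.comp_apply, LinearMap.rTensor_tmul,
        TensorProduct.lid_tmul, Algebra.TensorProduct.map_tmul, AlgHom.id_apply]
      rw [← TensorProduct.sum_tmul, TensorProduct.tmul_smul, TensorProduct.smul_tmul',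
        ← Algebra.algebraMap_eq_smul_one, trace_eq_sum_automorphisms]
      rfl
    | add x y hx hy => simp only [map_add, TensorProduct.tmul_add, hx, hy, Finset.sum_add_distrib]
  have hsep : ∀ l : L, IsSepElem K (T ((l ⊗ₜ[K] (1 : A)) * x)) := by
    intro l
    refine IsSepElem.of_one_tmul (L := L) ?_
    rw [hT]
    refine Subalgebra.sum_mem (sepSubalgebra L (L ⊗[K] A)) fun σ _ => ?_
    rw [map_mul, Algebra.TensorProduct.map_tmul, map_one]
    refine mul_mem ((sepSubalgebra L (L ⊗[K] A)).algebraMap_mem (σ l)) ?_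
    obtain ⟨f, hf, hfx⟩ := hx
    refine ⟨f.map σ.toRingEquiv.toRingHom, hf.map, ?_⟩
    have h := congrArg (Algebra.TensorProduct.map σ.toAlgHom (AlgHom.id K A)).toRingHom hfx
    rw [map_zero, aeval_def, hom_eval₂] at h
    rw [aeval_def, eval₂_map]
    rw [show (algebraMap L (L ⊗[K] A)).comp σ.toRingEquiv.toRingHom =
      (Algebra.TensorProduct.map σ.toAlgHom (AlgHom.id K A)).toRingHom.comp (algebraMap L (L ⊗[K] A)) from
        RingHom.ext fun c => by simp [Algebra.TensorProduct.algebraMap_apply]]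
    exact h
  have hsum : ∀ y : L ⊗[K] A, y = ∑ i, d i ⊗ₜ[K] T ((b i ⊗ₜ[K] (1 : A)) * y) := by
    intro y
    induction y with
    | zero => simp
    | tmul l a =>
      simp only [T, Algebra.TensorProduct.tmul_mul_tmul, one_mul, LinearMap.coe_comp, LinearEquiv.coe_coe,
        Function.comp_apply, LinearMap.rTensor_tmul, TensorProduct.lid_tmul, TensorProduct.tmul_smul,
        TensorProduct.smul_tmul', ← TensorProduct.sum_tmul]
      congr 1
      conv_lhs => rw [← d.sum_repr l]
      refine Finset.sum_congr rfl fun i _ => ?_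
      rw [LinearMap.BilinForm.dualBasis_repr_apply, Algebra.traceForm_apply, mul_comm]
    | add x y hx hy =>
      simp only [mul_add, map_add, TensorProduct.tmul_add, Finset.sum_add_distrib, ← hx, ← hy]
  rw [hsum x]
  refine sum_mem fun i _ => ?_
  rw [show d i ⊗ₜ[K] T ((b i ⊗ₜ[K] (1 : A)) * x) =
    algebraMap L (L ⊗[K] A) (d i) * ((1 : L) ⊗ₜ[K] T ((b i ⊗ₜ[K] (1 : A)) * x)) by
      rw [Algebra.TensorProduct.algebraMap_apply, Algebra.TensorProduct.tmul_mul_tmul, mul_one, one_mul]; rfl]
  exact mul_mem ((extSep K A L).algebraMap_mem _) (Algebra.subset_adjoin ⟨_, hsep (b i), rfl⟩)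

theorem map_injective {L L' : Type u} [Field L] [Algebra K L] [Field L'] [Algebra K L'] (φ : L →ₐ[K] L') :
    Function.Injective (Algebra.TensorProduct.map φ (AlgHom.id K A)) :=
  Module.Flat.rTensor_preserves_injective_linearMap φ.toLinearMap φ.injective

/-- Idempotents over the algebraic closure come from separable elements. -/
theorem mem_extSep_of_isIdempotentElem {k : Type u} [Field k] [Algebra K k] [IsAlgClosed k]
    [Algebra.IsAlgebraic K k] {e : k ⊗[K] A} (he : IsIdempotentElem e) : e ∈ extSep K A k := by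
  classical
  rcases subsingleton_or_nontrivial (k ⊗[K] A) with hs | hn
  · rw [Subsingleton.elim e 0]; exact zero_mem _
  let ks := separableClosure K k
  let ι : ks ⊗[K] A →ₐ[K] k ⊗[K] A := Algebra.TensorProduct.map ks.val (AlgHom.id K A)
  let q := ringExpChar k
  haveI : ExpChar (k ⊗[K] A) q := expChar_of_injective_ringHom (algebraMap k (k ⊗[K] A)).injective q
  have hpow : ∀ y : k ⊗[K] A, ∃ n : ℕ, ∀ m, n ≤ m → y ^ q ^ m ∈ ι.range := by
    intro y
    induction y with
    | zero => exact ⟨0, fun m _ => by rw [zero_pow (pow_pos (expChar_pos k q) m).ne']; exact zero_mem _⟩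
    | tmul c a =>
      haveI : ExpChar ks q := RingHom.expChar ks.val.toRingHom ks.val.toRingHom.injective q
      obtain ⟨n, z, hz⟩ := (isPurelyInseparable_iff_pow_mem ks q).1 (inferInstance : IsPurelyInseparable ks k) c
      refine ⟨n, fun m hm => ⟨(z ^ q ^ (m - n)) ⊗ₜ[K] (a ^ q ^ m), ?_⟩⟩
      rw [Algebra.TensorProduct.tmul_pow]
      show ks.val (z ^ q ^ (m - n)) ⊗ₜ[K] (a ^ q ^ m) = _
      rw [map_pow, show ks.val z = c ^ q ^ n from hz, ← pow_mul, ← pow_add, Nat.add_sub_cancel' hm]
    | add x y hx hy =>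
      obtain ⟨n, hn⟩ := hx
      obtain ⟨n', hn'⟩ := hy
      refine ⟨max n n', fun m hm => ?_⟩
      rw [add_pow_expChar_pow]
      exact add_mem (hn m (le_trans (le_max_left _ _) hm)) (hn' m (le_trans (le_max_right _ _) hm))
  obtain ⟨n, hn⟩ := hpow e
  have hmem := hn n le_rfl
  rw [← Nat.succ_pred_eq_of_pos (pow_pos (expChar_pos k q) n), he.pow_succ_eq] at hmem
  obtain ⟨e₁, he₁⟩ := hmem
  have hid : IsIdempotentElem e₁ := map_injective ks.val (by
    show ι (e₁ * e₁) = ι e₁
    rw [map_mul]
    exact he₁.symm ▸ he.eq)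
  obtain ⟨F, e₂, hF⟩ : ∃ (F : FiniteGaloisIntermediateField K ks) (e₂ : F ⊗[K] A),
      Algebra.TensorProduct.map F.toIntermediateField.val (AlgHom.id K A) e₂ = e₁ := by
    have h : ∀ y : ks ⊗[K] A, ∃ s : Finset ks, ∀ F : IntermediateField K ks, (s : Set ks) ⊆ F →
        y ∈ (Algebra.TensorProduct.map F.val (AlgHom.id K A)).range := by
      intro y
      induction y with
      | zero => exact ⟨∅, fun F _ => zero_mem _⟩
      | tmul c a => exact ⟨{c}, fun F hF => ⟨⟨c, hF (by simp)⟩ ⊗ₜ a, rfl⟩⟩
      | add x y hx hy =>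
        obtain ⟨s, hs⟩ := hx
        obtain ⟨s', hs'⟩ := hy
        exact ⟨s ∪ s', fun F hF => add_mem (hs F fun z hz => hF (by simp [Finset.mem_coe.1 hz]))
          (hs' F fun z hz => hF (by simp [Finset.mem_coe.1 hz]))⟩
    obtain ⟨s, hs⟩ := h e₁
    obtain ⟨e₂, he₂⟩ := hs (FiniteGaloisIntermediateField.adjoin K (s : Set ks)).toIntermediateField
      (FiniteGaloisIntermediateField.subset_adjoin K _)
    exact ⟨_, e₂, he₂⟩
  have hid₂ : IsIdempotentElem e₂ := map_injective F.toIntermediateField.val (by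
    rw [map_mul, hF]; exact hid.eq)
  rw [← he₁, ← hF]
  exact map_mem_extSep ks.val (map_mem_extSep F.toIntermediateField.val
    (mem_extSep_of_isGalois (isSepElem_of_isIdempotentElem hid₂)))

/-- Over an algebraically closed field separable elements are spanned by idempotents. -/
theorem mem_of_isSepElem_of_idempotents {k : Type u} [Field k] [IsAlgClosed k] {C : Type u} [CommRing C]
    [Algebra k C] (S : Subalgebra k C) (hS : ∀ e : C, IsIdempotentElem e → e ∈ S) {x : C}
    (hx : IsSepElem k x) : x ∈ S := by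
  classical
  obtain ⟨f, hf, hfx⟩ := hx
  let s := f.roots.toFinset
  have hzero : ∀ p : k[X], (∀ c ∈ s, p.eval c = 0) → aeval x p = 0 := by
    intro p hp
    rcases eq_or_ne p 0 with rfl | hp0
    · rw [map_zero]
    obtain ⟨r, hr⟩ : f ∣ p := (IsAlgClosed.splits f).dvd_of_roots_le_roots hf.ne_zero
      ((Multiset.le_iff_subset (nodup_roots hf)).2 fun c hc =>
        (mem_roots hp0).2 (hp c (Multiset.mem_toFinset.2 hc)))
    rw [hr, map_mul, hfx, zero_mul]
  have hinj : Set.InjOn (id : k → k) s := Function.injective_id.injOn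
  have hid : ∀ i ∈ s, IsIdempotentElem (aeval x (Lagrange.basis s id i)) := by
    intro i hi
    show _ * _ = _
    rw [← map_mul, ← sub_eq_zero, ← map_sub]
    refine hzero _ fun c hc => ?_
    rw [eval_sub, eval_mul]
    rcases eq_or_ne i c with rfl | hic
    · have h := Lagrange.eval_basis_self hinj hi
      simp only [id] at h
      rw [h, one_mul, sub_self]
    · have h := Lagrange.eval_basis_of_ne (v := id) hic hc
      simp only [id] at h
      rw [h, zero_mul, sub_self]
  have hx' : x = ∑ i ∈ s, i • aeval x (Lagrange.basis s id i) := by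
    have h := hzero (X - ∑ i ∈ s, Polynomial.C i * Lagrange.basis s id i) fun c hc => by
      rw [eval_sub, eval_X, eval_finset_sum, Finset.sum_eq_single c]
      · rw [eval_mul, eval_C]
        have h := Lagrange.eval_basis_self hinj hc
        simp only [id] at h
        rw [h, mul_one, sub_self]
      · intro i _ hic
        have h := Lagrange.eval_basis_of_ne (v := id) hic hc
        simp only [id] at h
        rw [eval_mul, h, mul_zero]
      · exact fun h => absurd hc h
    rw [map_sub, aeval_X, sub_eq_zero, map_sum] at h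
    conv_lhs => rw [h]
    exact Finset.sum_congr rfl fun i _ => by rw [map_mul, aeval_C, Algebra.smul_def]
  rw [hx']
  exact sum_mem fun i hi => S.smul_mem (hS _ (hid i hi)) i

/-- Base change between extensions of an algebraically closed field has no new idempotents. -/
theorem exists_of_isIdempotentElem {k Ω C : Type u} [Field k] [IsAlgClosed k] [Field Ω] [Algebra k Ω]
    [CommRing C] [Algebra k C] {e : Ω ⊗[k] C} (he : IsIdempotentElem e) :
    ∃ c : C, IsIdempotentElem c ∧ e = (1 : Ω) ⊗ₜ[k] c := by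
  classical
  obtain ⟨s, hs⟩ : ∃ s : Finset Ω, ∀ R : Subalgebra k Ω, (s : Set Ω) ⊆ R →
      e ∈ (Algebra.TensorProduct.map R.val (AlgHom.id k C)).range := by
    clear he
    induction e with
    | zero => exact ⟨∅, fun R _ => zero_mem _⟩
    | tmul w a => exact ⟨{w}, fun R hR => ⟨⟨w, hR (by simp)⟩ ⊗ₜ a, rfl⟩⟩
    | add x y hx hy =>
      obtain ⟨s, hs⟩ := hx
      obtain ⟨s', hs'⟩ := hy
      exact ⟨s ∪ s', fun R hR => add_mem (hs R fun z hz => hR (by simp [Finset.mem_coe.1 hz]))
        (hs' R fun z hz => hR (by simp [Finset.mem_coe.1 hz]))⟩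
  let R := Algebra.adjoin k (s : Set Ω)
  haveI : Algebra.FiniteType k R := (Subalgebra.fg_iff_finiteType R).1 ⟨s, rfl⟩
  obtain ⟨e', he'⟩ := hs R Algebra.subset_adjoin
  have hinj : Function.Injective (Algebra.TensorProduct.map R.val (AlgHom.id k C)) :=
    Module.Flat.rTensor_preserves_injective_linearMap R.val.toLinearMap Subtype.val_injective
  have hid : IsIdempotentElem e' := hinj (by rw [map_mul]; exact he'.symm ▸ he.eq)
  haveI : IsJacobsonRing R := isJacobsonRing_of_finiteType (A := k)
  have hchar : ∀ m : Ideal R, m.IsMaximal → ∃ χ : R →ₐ[k] k, RingHom.ker χ = m := by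
    intro m hm
    haveI := hm
    letI : Field (R ⧸ m) := Ideal.Quotient.field m
    haveI : Module.Finite k (R ⧸ m) := finite_of_finite_type_of_isJacobsonRing k (R ⧸ m)
    let ψ := AlgEquiv.ofBijective (Algebra.ofId k (R ⧸ m))
      (IsAlgClosed.algebraMap_bijective_of_isIntegral (k := k) (K := R ⧸ m))
    refine ⟨ψ.symm.toAlgHom.comp (Ideal.Quotient.mkₐ k m), Ideal.ext fun r => ?_⟩
    rw [RingHom.mem_ker]
    show ψ.symm (Ideal.Quotient.mk m r) = 0 ↔ _
    rw [map_eq_zero_iff _ ψ.symm.injective, Ideal.Quotient.eq_zero_iff_mem]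
  obtain ⟨m₀, hm₀⟩ := Ideal.exists_maximal R
  obtain ⟨χ, -⟩ := hchar m₀ hm₀
  let ev : (F : Type u) → [CommRing F] → [Algebra k F] → (R →ₐ[k] k) → (R ⊗[k] F →ₐ[k] F) :=
    fun F _ _ χ => (Algebra.TensorProduct.lid k F).toAlgHom.comp (Algebra.TensorProduct.map χ (AlgHom.id k F))
  let c : C := ev C χ e'
  have hcid : IsIdempotentElem c := hid.map (ev C χ)
  refine ⟨c, hcid, ?_⟩
  suffices h : IsNilpotent (e' - (1 : R) ⊗ₜ[k] c) by
    have hd : IsIdempotentElem ((1 : R) ⊗ₜ[k] c) := hcid.map (Algebra.TensorProduct.includeRight : C →ₐ[k] R ⊗[k] C)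
    obtain ⟨n, hn⟩ := h
    have h3 : (e' - (1 : R) ⊗ₜ[k] c) ^ 3 = e' - (1 : R) ⊗ₜ[k] c := by
      linear_combination ((e' + 1) - 3 * ((1 : R) ⊗ₜ[k] c)) * hid.eq + (3 * e' - (1 : R) ⊗ₜ[k] c - 1) * hd.eq
    have h3n : ∀ n, (e' - (1 : R) ⊗ₜ[k] c) ^ 3 ^ n = e' - (1 : R) ⊗ₜ[k] c := fun n => by
      induction n with
      | zero => rw [pow_zero, pow_one]
      | succ n ih => rw [pow_succ, pow_mul, ih, h3]
    have h0 : e' - (1 : R) ⊗ₜ[k] c = 0 := by
      rw [← h3n n, ← Nat.add_sub_cancel' (Nat.lt_pow_self (a := 3) (n := n) (by norm_num)).le, pow_add, hn,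
        zero_mul]
    rw [← he', sub_eq_zero.1 h0]
    exact Algebra.TensorProduct.map_tmul _ _ _ _
  let w := Module.Free.chooseBasis k R
  let ρ : R ⊗[k] C ≃ₗ[k] (Module.Free.ChooseBasisIndex k R →₀ C) := TensorProduct.equivFinsuppOfBasisLeft w
  set d := e' - (1 : R) ⊗ₜ[k] c with hd
  have hcoef : ∀ j, ∀ q : Ideal C, q.IsPrime → ρ d j ∈ q := by
    intro j q hq
    haveI := hq
    let F := q.ResidueField
    let π : C →ₐ[k] F := IsScalarTower.toAlgHom k C F
    let g := Algebra.TensorProduct.map (AlgHom.id k R) π e'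
    have hg : IsIdempotentElem g := hid.map _
    let v := Module.Free.chooseBasis k F
    let β := Algebra.TensorProduct.basis R v
    have hev : ∀ (χ : R →ₐ[k] k) (y : R ⊗[k] F) i, v.repr (ev F χ y) i = χ (β.repr y i) := by
      intro χ y i
      induction y with
      | zero => simp
      | tmul r x =>
        simp only [ev, AlgHom.comp_apply, Algebra.TensorProduct.map_tmul, AlgHom.id_apply, β,
          Algebra.TensorProduct.basis_repr_tmul, Finsupp.smul_apply, Finsupp.mapRange_apply, smul_eq_mul, map_mul,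
          AlgHom.commutes]
        simp
      | add x y hx hy => simp only [map_add, Finsupp.add_apply, hx, hy]
    have hprod : ∀ i i', β.repr g i * β.repr (1 - g) i' = 0 := by
      intro i i'
      have hmem : ∀ m : Ideal R, m.IsMaximal → β.repr g i * β.repr (1 - g) i' ∈ m := by
        intro m hm
        obtain ⟨χ', rfl⟩ := hchar m hm
        rw [RingHom.mem_ker, map_mul, ← hev, ← hev]
        rcases IsIdempotentElem.iff_eq_zero_or_one.1 (hg.map (ev F χ')) with h | h
        · rw [h, map_zero, Finsupp.zero_apply, zero_mul]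
        · rw [map_sub (ev F χ'), map_one (ev F χ'), h, sub_self, map_zero, Finsupp.zero_apply, mul_zero]
      have hJ : β.repr g i * β.repr (1 - g) i' ∈ (⊥ : Ideal R).jacobson := Ideal.mem_sInf.2 fun {m} hm => hmem m hm.2
      rwa [← (isJacobsonRing_iff.1 ‹_› ⊥ (Ideal.isPrime_bot.isRadical)).symm.trans rfl] at hJ
    have h01 : g = 0 ∨ g = 1 := by
      by_contra hne
      push Not at hne
      obtain ⟨i, hi⟩ : ∃ i, β.repr g i ≠ 0 := by
        by_contra h; push Not at h
        exact hne.1 (β.repr.injective (Finsupp.ext fun i => by rw [h i, map_zero]; rfl))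
      obtain ⟨i', hi'⟩ : ∃ i, β.repr (1 - g) i ≠ 0 := by
        by_contra h; push Not at h
        exact hne.2 (sub_eq_zero.1 (β.repr.injective (Finsupp.ext fun i => by rw [h i, map_zero]; rfl))).symm
      exact mul_ne_zero hi hi' (hprod i i')
    have hgd : Algebra.TensorProduct.map (AlgHom.id k R) π d = 0 := by
      have hcompat : ev F χ g = π c := by
        show ((ev F χ).comp (Algebra.TensorProduct.map (AlgHom.id k R) π)) e' = (π.comp (ev C χ)) e'
        refine AlgHom.congr_fun (Algebra.TensorProduct.ext' fun r y => ?_) e'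
        simp [ev, π]
        rw [Algebra.smul_def (χ r), Algebra.smul_def (χ r), map_mul, ← IsScalarTower.algebraMap_apply]
      rw [hd, map_sub, Algebra.TensorProduct.map_tmul, map_one, ← hcompat]
      show g - _ = 0
      rcases h01 with h | h
      · rw [h, map_zero, TensorProduct.tmul_zero, sub_zero]
      · rw [h, map_one]; exact sub_self _
    have hρ : ∀ y : R ⊗[k] C, π (ρ y j) =
        TensorProduct.equivFinsuppOfBasisLeft w (Algebra.TensorProduct.map (AlgHom.id k R) π y) j := by
      intro y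
      induction y with
      | zero => simp
      | tmul r y => simp [ρ]
      | add x y hx hy => simp only [map_add, Finsupp.add_apply, hx, hy]
    have h := hρ d
    rw [hgd, map_zero, Finsupp.zero_apply] at h
    exact Ideal.algebraMap_residueField_eq_zero.1 h
  rw [← mem_nilradical, ← ρ.symm_apply_apply d, TensorProduct.equivFinsuppOfBasisLeft_symm_apply]
  refine sum_mem fun j _ => ?_
  show w j ⊗ₜ[k] ρ d j ∈ nilradical _
  rw [show w j ⊗ₜ[k] ρ d j = (w j ⊗ₜ[k] (1 : C)) *
    (Algebra.TensorProduct.includeRight : C →ₐ[k] R ⊗[k] C) (ρ d j) by simp]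
  refine Ideal.mul_mem_left _ _ (mem_nilradical.2 (IsNilpotent.map ?_ _))
  rw [← mem_nilradical, nilradical_eq_sInf]
  exact Ideal.mem_sInf.2 fun {q} hq => hcoef j q hq

theorem mem_extSep_of_isSepElem {L : Type u} [Field L] [Algebra K L] {x : L ⊗[K] A} (hx : IsSepElem L x) :
    x ∈ extSep K A L := by
  classical
  let Ω := AlgebraicClosure L
  let k := AlgebraicClosure K
  let j : k →ₐ[K] Ω := IsAlgClosed.lift
  letI : Algebra k Ω := j.toRingHom.toAlgebra
  haveI : IsScalarTower K k Ω := IsScalarTower.of_algebraMap_eq fun c => (j.commutes c).symm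
  let φ : L →ₐ[K] Ω := IsScalarTower.toAlgHom K L Ω
  let Φ := Algebra.TensorProduct.map φ (AlgHom.id K A)
  have hΦx : IsSepElem Ω (Φ x) := by
    obtain ⟨f, hf, hfx⟩ := hx
    refine ⟨f.map (algebraMap L Ω), hf.map, ?_⟩
    have h := congrArg Φ.toRingHom hfx
    rw [map_zero, aeval_def, hom_eval₂] at h
    rw [aeval_def, eval₂_map]
    rw [show (algebraMap Ω (Ω ⊗[K] A)).comp (algebraMap L Ω) = Φ.toRingHom.comp (algebraMap L (L ⊗[K] A)) from
      RingHom.ext fun c => by simp [Φ, φ, Algebra.TensorProduct.algebraMap_apply]]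
    exact h
  have hmem : Φ x ∈ extSep K A Ω := by
    refine mem_of_isSepElem_of_idempotents _ (fun e he => ?_) hΦx
    let ce := Algebra.TensorProduct.cancelBaseChange K k Ω Ω A
    obtain ⟨c, hc, hec⟩ := exists_of_isIdempotentElem (he.map ce.symm)
    have h := map_mem_extSep j (mem_extSep_of_isIdempotentElem hc)
    have hce : ∀ c : k ⊗[K] A, Algebra.TensorProduct.map j (AlgHom.id K A) c = ce ((1 : Ω) ⊗ₜ[k] c) := by
      intro c
      induction c with
      | zero => simp
      | tmul l a =>
        simp only [ce, Algebra.TensorProduct.cancelBaseChange_tmul, Algebra.TensorProduct.map_tmul,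
          AlgHom.id_apply, Algebra.smul_def, mul_one]
        rfl
      | add x y hx hy => simp only [map_add, TensorProduct.tmul_add, hx, hy]
    rw [hce, ← hec, AlgEquiv.apply_symm_apply] at h
    exact h
  -- descend along `L → Ω`
  let B := sepSubalgebra K A
  let q := (Subalgebra.toSubmodule B).mkQ
  have hkill : ∀ {E : Type u} [Field E] [Algebra K E] (y : E ⊗[K] A), y ∈ extSep K A E → q.lTensor E y = 0 := by
    intro E _ _ y hy
    have hle : extSep K A E ≤ (Algebra.TensorProduct.map (AlgHom.id E E) B.val).range := by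
      refine Algebra.adjoin_le ?_
      rintro _ ⟨a, ha, rfl⟩
      exact ⟨1 ⊗ₜ ⟨a, ha⟩, rfl⟩
    obtain ⟨t, rfl⟩ := hle hy
    clear hy
    induction t with
    | zero => simp
    | tmul l b =>
      show l ⊗ₜ[K] q (b : A) = 0
      rw [show q (b : A) = 0 from (Submodule.Quotient.mk_eq_zero _).2 b.2, TensorProduct.tmul_zero]
    | add x y hx hy => rw [map_add, map_add, hx, hy, add_zero]
  have hzero : q.lTensor L x = 0 := by
    refine Module.Flat.rTensor_preserves_injective_linearMap φ.toLinearMap φ.injective ?_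
    rw [map_zero, ← hkill _ hmem]
    show (φ.toLinearMap.rTensor _) (q.lTensor L x) = q.lTensor Ω (φ.toLinearMap.rTensor A x)
    rw [← LinearMap.comp_apply, ← LinearMap.comp_apply, LinearMap.rTensor_comp_lTensor,
      LinearMap.lTensor_comp_rTensor]
  have hex : Function.Exact (Subalgebra.toSubmodule B).subtype q :=
    LinearMap.exact_subtype_mkQ _
  obtain ⟨t, rfl⟩ := (Module.Flat.lTensor_exact L hex x).1 hzero
  clear hx hzero hmem hΦx
  induction t with
  | zero => rw [map_zero]; exact zero_mem _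
  | tmul l b =>
    rw [LinearMap.lTensor_tmul, show l ⊗ₜ[K] (Subalgebra.toSubmodule B).subtype b =
      algebraMap L (L ⊗[K] A) l * ((1 : L) ⊗ₜ[K] (b : A)) by
        rw [Algebra.TensorProduct.algebraMap_apply, Algebra.TensorProduct.tmul_mul_tmul, mul_one, one_mul]; rfl]
    exact mul_mem ((extSep K A L).algebraMap_mem _) (Algebra.subset_adjoin ⟨b, b.2, rfl⟩)
  | add x y hx hy => rw [map_add]; exact add_mem hx hy

theorem sepSubalgebra_tensor (L : Type u) [Field L] [Algebra K L] :
    sepSubalgebra L (L ⊗[K] A) = extSep K A L :=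
  le_antisymm (fun _ hx => mem_extSep_of_isSepElem hx) (extSep_le L)

end GrothLib.WeakEtale
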